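import Cfsg.Agent.Lib.Chev.Invol.Sound
import Cfsg.Agent.Lib.Chev.CheckF4

/-!
Generated certificates for the classes of involutions of the Chevalley group of type F4 in characteristic two.
-/
set_option autoImplicit false
set_option maxRecDepth 100000

namespace Cfsg.Agent.Chev.Invol.F4

open Cfsg.Lie

/-- Functionals giving multiples of the coefficients of a root. -/
def lam : List (List ℤ) := [[2, 3, 4, 2], [3, 6, 8, 4], [2, 4, 6, 3], [1, 2, 3, 2]]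

/-- The roots of node 0. -/
def roots0 : List ℕ := []

/-- The products of node 0. -/
def reps0 : List (List ℕ) := [[]]

/-- Cases of node 0. -/
def cases0_0 : List JCase :=
  [⟨[], [], 0, .none⟩]

/-- Node 0. -/
def node0 : Node :=
  ⟨[], roots0, 0, reps0, [], cases0_0,
    []⟩

/-- The roots of node 1. -/
def roots1 : List ℕ := [20, 27]

/-- The products of node 1. -/
def reps1 : List (List ℕ) := [[], [27]]

/-- Cases of node 1. -/
def cases1_0 : List JCase :=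
  [⟨[], [], 0, .none⟩,
   ⟨[1], [27], 134217728, .good ⟨[([], 1)], [27], [1], [], 0, [5, 9, 13, 7], [], 0, [([], 1)]⟩⟩]

/-- Node 1. -/
def node1 : Node :=
  ⟨[1], roots1, 135266304, reps1, [1], cases1_0,
    [(roots0, reps0)]⟩

/-- The roots of node 2. -/
def roots2 : List ℕ := [22, 25]

/-- The products of node 2. -/
def reps2 : List (List ℕ) := [[], [25]]

/-- Cases of node 2. -/
def cases2_0 : List JCase :=
  [⟨[], [], 0, .none⟩,
   ⟨[2], [25], 33554432, .good ⟨[([], 2)], [25], [2], [], 0, [6, 11, 15, 8], [], 0, [([], 1)]⟩⟩]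

/-- Node 2. -/
def node2 : Node :=
  ⟨[2], roots2, 37748736, reps2, [2], cases2_0,
    [(roots0, reps0)]⟩

/-- The roots of node 3. -/
def roots3 : List ℕ := [17, 19, 20, 22, 25, 27, 28, 30]

/-- The products of node 3. -/
def reps3 : List (List ℕ) := [[], [28], [27, 28], [30], [25, 30]]

/-- Cases of node 3. -/
def cases3_0 : List JCase :=
  [⟨[], [], 0, .none⟩,
   ⟨[1], [27], 134217728, .good ⟨[([], 1)], [27], [1], [(25, 30), (28, 28)], 1375731712, [5, 9, 13, 7], [2], 0, [([], 1), ([], 2)]⟩⟩,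
   ⟨[2], [25], 33554432, .good ⟨[([], 2)], [25], [2], [(27, 28), (30, 30)], 1476395008, [6, 11, 15, 8], [1], 1, [([], 3), ([], 4)]⟩⟩,
   ⟨[1, 2], [25, 27, 28, 30], 1509949440, .good ⟨[([1], 2), ([], 2)], [30, 25], [1, 2, 1, 2], [], 0, [3, 5, 7, 4], [1], 2, [([], 4)]⟩⟩]

/-- Node 3. -/
def node3 : Node :=
  ⟨[1, 2], roots3, 1515847680, reps3, [1, 2, 1, 2], cases3_0,
    [(roots1, reps1), (roots2, reps2), (roots0, reps0)]⟩

/-- The roots of node 4. -/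
def roots4 : List ℕ := [23, 24]

/-- The products of node 4. -/
def reps4 : List (List ℕ) := [[], [24]]

/-- Cases of node 4. -/
def cases4_0 : List JCase :=
  [⟨[], [], 0, .none⟩,
   ⟨[3], [24], 16777216, .good ⟨[([], 3)], [24], [3], [], 0, [7, 13, 18, 9], [], 0, [([], 1)]⟩⟩]

/-- Node 4. -/
def node4 : Node :=
  ⟨[3], roots4, 25165824, reps4, [3], cases4_0,
    [(roots0, reps0)]⟩

/-- The roots of node 5. -/
def roots5 : List ℕ := [20, 23, 24, 27]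

/-- The products of node 5. -/
def reps5 : List (List ℕ) := [[], [27], [24, 27], [24]]

/-- Cases of node 5. -/
def cases5_0 : List JCase :=
  [⟨[], [], 0, .none⟩,
   ⟨[1], [27], 134217728, .good ⟨[([], 1)], [27], [1], [(24, 24)], 16777216, [5, 9, 13, 7], [], 0, [([], 1), ([], 2)]⟩⟩,
   ⟨[3], [24], 16777216, .good ⟨[([], 3)], [24], [3], [(27, 27)], 134217728, [7, 13, 18, 9], [], 1, [([], 3), ([], 2)]⟩⟩,
   ⟨[1, 3], [24, 27], 150994944, .good ⟨[([], 1), ([], 3)], [27, 24], [1, 3], [], 0, [4, 7, 10, 5], [], 2, [([], 2)]⟩⟩]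

/-- Node 5. -/
def node5 : Node :=
  ⟨[1, 3], roots5, 160432128, reps5, [1, 3], cases5_0,
    [(roots4, reps4), (roots1, reps1), (roots0, reps0)]⟩

/-- The roots of node 6. -/
def roots6 : List ℕ := [15, 16, 17, 18, 19, 20, 21, 22, 23, 24, 25, 26, 27, 28, 29, 30, 31, 32]

/-- The products of node 6. -/
def reps6 : List (List ℕ) := [[], [29], [28, 29], [27, 28, 29], [29, 30], [25, 29, 30], [32], [24, 32]]

/-- Cases of node 6. -/
def cases6_0 : List JCase :=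
  [⟨[], [], 0, .none⟩,
   ⟨[1], [27], 134217728, .good ⟨[([], 1)], [27], [1], [(24, 24), (25, 30), (28, 28), (26, 31), (29, 29), (32, 32)], 8438939648, [5, 9, 13, 7], [3, 2], 0, [([], 1), ([], 2), ([], 3), ([], 4), ([], 5)]⟩⟩,
   ⟨[2], [25], 33554432, .good ⟨[([], 2)], [25], [2], [(24, 26), (27, 28), (29, 29), (30, 30), (31, 32)], 8539602944, [6, 11, 15, 8], [2, 3, 1], 1, [([], 6), ([3, 2], 4), ([3, 2], 5), ([], 7)]⟩⟩,
   ⟨[1, 2], [25, 27, 28, 30], 1509949440, .good ⟨[([1], 2), ([], 2)], [30, 25], [1, 2, 1, 2], [(24, 32), (26, 31), (29, 29)], 7063207936, [3, 5, 7, 4], [2, 3, 1], 2, [([], 7), ([3, 2], 5)]⟩⟩,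
   ⟨[3], [24], 16777216, .good ⟨[([], 3)], [24], [3], [(25, 26), (27, 27), (28, 29), (30, 31), (32, 32)], 8556380160, [7, 13, 18, 9], [2, 1, 2], 1, [([], 6), ([3, 2], 4), ([3, 2], 5), ([], 7)]⟩⟩,
   ⟨[1, 3], [24, 27], 150994944, .good ⟨[([], 1), ([], 3)], [27, 24], [1, 3], [(25, 31), (26, 30), (28, 29), (32, 32)], 8422162432, [4, 7, 10, 5], [2, 1, 2], 3, [([3, 2], 4), ([3, 2], 5)]⟩⟩,
   ⟨[2, 3], [24, 25, 26], 117440512, .bad [2, 3, 2] 2⟩,
   ⟨[1, 2, 3], [24, 25, 26, 27, 28, 29, 30, 31, 32], 8573157376, .good ⟨[([2, 1, 2], 3), ([], 1), ([], 3)], [32, 27, 24], [2, 1, 2, 3, 2, 1, 2, 1, 3], [], 0, [2, 3, 4, 2], [2, 1, 2], 4, [([3, 2], 5)]⟩⟩]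

/-- Node 6. -/
def node6 : Node :=
  ⟨[1, 2, 3], roots6, 8589901824, reps6, [1, 2, 1, 2, 3, 2, 1, 2, 3], cases6_0,
    [(roots3, reps3), (roots5, reps5), (roots1, reps1), (roots4, reps4), (roots0, reps0)]⟩

/-- The roots of node 7. -/
def roots7 : List ℕ := [14, 33]

/-- The products of node 7. -/
def reps7 : List (List ℕ) := [[], [33]]

/-- Cases of node 7. -/
def cases7_0 : List JCase :=
  [⟨[], [], 0, .none⟩,
   ⟨[0], [33], 8589934592, .good ⟨[([], 0)], [33], [0], [], 0, [6, 12, 17, 9], [], 0, [([], 1)]⟩⟩]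

/-- Node 7. -/
def node7 : Node :=
  ⟨[0], roots7, 8589950976, reps7, [0], cases7_0,
    [(roots0, reps0)]⟩

/-- The roots of node 8. -/
def roots8 : List ℕ := [14, 22, 25, 33]

/-- The products of node 8. -/
def reps8 : List (List ℕ) := [[], [33], [25, 33], [25]]

/-- Cases of node 8. -/
def cases8_0 : List JCase :=
  [⟨[], [], 0, .none⟩,
   ⟨[0], [33], 8589934592, .good ⟨[([], 0)], [33], [0], [(25, 25)], 33554432, [6, 12, 17, 9], [], 0, [([], 1), ([], 2)]⟩⟩,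
   ⟨[2], [25], 33554432, .good ⟨[([], 2)], [25], [2], [(33, 33)], 8589934592, [6, 11, 15, 8], [], 1, [([], 3), ([], 2)]⟩⟩,
   ⟨[0, 2], [25, 33], 8623489024, .good ⟨[([], 0), ([], 2)], [33, 25], [0, 2], [], 0, [4, 8, 11, 6], [], 2, [([], 2)]⟩⟩]

/-- Node 8. -/
def node8 : Node :=
  ⟨[0, 2], roots8, 8627699712, reps8, [0, 2], cases8_0,
    [(roots2, reps2), (roots7, reps7), (roots0, reps0)]⟩

/-- The roots of node 9. -/
def roots9 : List ℕ := [6, 10, 12, 13, 14, 17, 19, 20, 22, 25, 27, 28, 30, 33, 34, 35, 37, 41]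

/-- The products of node 9. -/
def reps9 : List (List ℕ) := [[], [37], [33, 37], [25, 33, 37], [25, 37], [41], [30, 41], [25, 30, 41]]

/-- Cases of node 9. -/
def cases9_0 : List JCase :=
  [⟨[], [], 0, .none⟩,
   ⟨[0], [33], 8589934592, .good ⟨[([], 0)], [33], [0], [(25, 25), (27, 34), (28, 35), (30, 41), (37, 37)], 2389511766016, [6, 12, 17, 9], [1, 2, 1], 0, [([], 1), ([], 2), ([], 3), ([], 4)]⟩⟩,
   ⟨[1], [27], 134217728, .good ⟨[([], 1)], [27], [1], [(25, 30), (28, 28), (33, 34), (35, 37), (41, 41)], 2397967482880, [5, 9, 13, 7], [1, 2, 0], 0, [([], 1), ([], 2), ([], 3), ([], 4)]⟩⟩,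
   ⟨[0, 1], [27, 33, 34], 25904021504, .bad [0, 1, 0] 0⟩,
   ⟨[2], [25], 33554432, .good ⟨[([], 2)], [25], [2], [(27, 28), (33, 33), (30, 30), (34, 35), (37, 37), (41, 41)], 2398068146176, [6, 11, 15, 8], [0, 1], 1, [([], 5), ([1, 0], 4), ([1, 0], 3), ([], 6), ([], 7)]⟩⟩,
   ⟨[0, 2], [25, 33], 8623489024, .good ⟨[([], 0), ([], 2)], [33, 25], [0, 2], [(27, 35), (28, 34), (30, 41), (37, 37)], 2389478211584, [4, 8, 11, 6], [2, 0, 1], 2, [([1, 0], 4), ([1, 0], 3)]⟩⟩,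
   ⟨[1, 2], [25, 27, 28, 30], 1509949440, .good ⟨[([1], 2), ([], 2)], [30, 25], [1, 2, 1, 2], [(33, 37), (34, 35), (41, 41)], 2396591751168, [3, 5, 7, 4], [0, 1, 0], 3, [([], 6), ([], 7)]⟩⟩,
   ⟨[0, 1, 2], [25, 27, 28, 30, 33, 34, 35, 37, 41], 2398101700608, .good ⟨[([0, 1], 2), ([1], 2), ([], 2)], [41, 30, 25], [0, 1, 2, 1, 0, 1, 2, 1, 2], [], 0, [1, 2, 3, 2], [0, 1, 0], 4, [([], 7)]⟩⟩]

/-- Node 9. -/
def node9 : Node :=
  ⟨[0, 1, 2], roots9, 2398107628608, reps9, [0, 1, 0, 2, 1, 0, 2, 1, 2], cases9_0,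
    [(roots8, reps8), (roots3, reps3), (roots1, reps1), (roots2, reps2), (roots0, reps0)]⟩

/-- The roots of node 10. -/
def roots10 : List ℕ := [0, 1, 2, 3, 4, 5, 6, 7, 8, 9, 10, 11, 12, 13, 14, 15, 16, 17, 18, 19, 20, 21, 22, 23, 24, 25, 26, 27, 28, 29, 30, 31, 32, 33, 34, 35, 36, 37, 38, 39, 40, 41, 42, 43, 44, 45, 46, 47]

/-- The products of node 10. -/
def reps10 : List (List ℕ) := [[], [44], [29, 44], [28, 29, 44], [27, 28, 29, 44], [29, 30, 44], [25, 29, 30, 44], [32, 44], [24, 32, 44], [47], [41, 47], [30, 41, 47], [25, 30, 41, 47]]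

/-- Cases of node 10. -/
def cases10_0 : List JCase :=
  [⟨[], [], 0, .none⟩,
   ⟨[0], [33], 8589934592, .good ⟨[([], 0)], [33], [0], [(24, 24), (25, 25), (27, 34), (26, 26), (28, 35), (29, 36), (30, 41), (37, 37), (31, 42), (38, 38), (32, 43), (39, 39), (40, 44), (45, 45), (46, 46), (47, 47)], 281466369998848, [6, 12, 17, 9], [0, 1, 2, 3, 1, 2, 1], 0, [([], 1), ([], 2), ([], 3), ([], 4), ([], 5), ([], 6), ([], 7), ([], 8)]⟩⟩,
   ⟨[1], [27], 134217728, .good ⟨[([], 1)], [27], [1], [(24, 24), (25, 30), (28, 28), (33, 34), (26, 31), (29, 29), (35, 37), (32, 32), (36, 38), (41, 41), (39, 40), (42, 42), (43, 45), (44, 44), (46, 46), (47, 47)], 281474825715712, [5, 9, 13, 7], [0, 1, 2, 3, 1, 2, 0], 0, [([], 1), ([], 2), ([], 3), ([], 4), ([], 5), ([], 6), ([], 7), ([], 8)]⟩⟩,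
   ⟨[0, 1], [27, 33, 34], 25904021504, .bad [0, 1, 0] 0⟩,
   ⟨[2], [25], 33554432, .good ⟨[([], 2)], [25], [2], [(24, 26), (27, 28), (33, 33), (29, 29), (30, 30), (34, 35), (31, 32), (36, 36), (37, 37), (38, 39), (41, 41), (40, 40), (42, 43), (44, 44), (45, 46), (47, 47)], 281474926379008, [6, 11, 15, 8], [3, 2, 1, 2, 3, 0, 1], 1, [([], 9), ([0, 1, 2, 3], 7), ([0, 3, 2, 1, 2, 3], 5), ([0, 3, 2, 1, 2, 3], 6), ([0, 1, 2, 3], 8), ([], 10), ([], 11), ([], 12)]⟩⟩,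
   ⟨[0, 2], [25, 33], 8623489024, .good ⟨[([], 0), ([], 2)], [33, 25], [0, 2], [(24, 26), (27, 35), (28, 34), (29, 36), (30, 41), (37, 37), (31, 43), (32, 42), (38, 39), (40, 44), (45, 46), (47, 47)], 281466336444416, [4, 8, 11, 6], [3, 1, 2, 0, 1, 2, 3, 2, 0, 1], 2, [([0, 1, 2, 3], 7), ([0, 3, 2, 1, 2, 3], 5), ([0, 3, 2, 1, 2, 3], 6), ([0, 1, 2, 3], 8)]⟩⟩,
   ⟨[1, 2], [25, 27, 28, 30], 1509949440, .good ⟨[([1], 2), ([], 2)], [30, 25], [1, 2, 1, 2], [(24, 32), (26, 31), (29, 29), (33, 37), (34, 35), (36, 40), (38, 39), (41, 41), (42, 46), (43, 45), (44, 44), (47, 47)], 281473449984000, [3, 5, 7, 4], [3, 2, 0, 1, 2, 3, 0, 1, 0], 3, [([], 10), ([0, 1, 2, 1, 0, 3], 8), ([0, 1, 3, 2, 1, 0, 2, 3], 6), ([], 11), ([], 12)]⟩⟩,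
   ⟨[0, 1, 2], [25, 27, 28, 30, 33, 34, 35, 37, 41], 2398101700608, .good ⟨[([0, 1], 2), ([1], 2), ([], 2)], [41, 30, 25], [0, 1, 2, 1, 0, 1, 2, 1, 2], [(24, 46), (26, 45), (29, 44), (31, 43), (32, 42), (36, 40), (38, 39), (47, 47)], 279076858232832, [1, 2, 3, 2], [3, 1, 2, 0, 1, 2, 3, 0, 1, 0], 4, [([], 11), ([], 12)]⟩⟩,
   ⟨[3], [24], 16777216, .good ⟨[([], 3)], [24], [3], [(25, 26), (27, 27), (33, 33), (28, 29), (34, 34), (30, 31), (35, 36), (32, 32), (37, 38), (39, 39), (41, 42), (40, 40), (43, 43), (44, 44), (45, 45), (46, 47)], 281474943156224, [7, 13, 18, 9], [3, 2, 1, 2, 0, 1, 2], 1, [([], 9), ([0, 1, 2, 3], 7), ([0, 3, 2, 1, 2, 3], 5), ([0, 3, 2, 1, 2, 3], 6), ([0, 1, 2, 3], 8), ([], 10), ([], 11), ([], 12)]⟩⟩,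
   ⟨[0, 3], [24, 33], 8606711808, .good ⟨[([], 0), ([], 3)], [33, 24], [0, 3], [(25, 26), (27, 34), (28, 36), (29, 35), (30, 42), (31, 41), (37, 38), (32, 43), (39, 39), (40, 44), (45, 45), (46, 47)], 281466353221632, [5, 10, 14, 7], [1, 2, 3, 2, 1, 2, 0, 1, 2, 1], 2, [([0, 1, 2, 3], 7), ([0, 3, 2, 1, 2, 3], 5), ([0, 3, 2, 1, 2, 3], 6), ([0, 1, 2, 3], 8)]⟩⟩,
   ⟨[1, 3], [24, 27], 150994944, .good ⟨[([], 1), ([], 3)], [27, 24], [1, 3], [(25, 31), (26, 30), (28, 29), (33, 34), (32, 32), (35, 38), (36, 37), (39, 40), (41, 42), (43, 45), (44, 44), (46, 47)], 281474808938496, [4, 7, 10, 5], [1, 2, 3, 2, 1, 2, 0, 1, 2, 0], 2, [([0, 1, 2, 3], 7), ([0, 3, 2, 1, 2, 3], 5), ([0, 3, 2, 1, 2, 3], 6), ([0, 1, 2, 3], 8)]⟩⟩,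
   ⟨[0, 1, 3], [24, 27, 33, 34], 25920798720, .bad [0, 1, 0, 3] 0⟩,
   ⟨[2, 3], [24, 25, 26], 117440512, .bad [2, 3, 2] 2⟩,
   ⟨[0, 2, 3], [24, 25, 26, 33], 8707375104, .bad [0, 2, 3, 2] 2⟩,
   ⟨[1, 2, 3], [24, 25, 26, 27, 28, 29, 30, 31, 32], 8573157376, .good ⟨[([2, 1, 2], 3), ([], 1), ([], 3)], [32, 27, 24], [2, 1, 2, 3, 2, 1, 2, 1, 3], [(33, 40), (34, 39), (35, 38), (36, 37), (41, 47), (42, 46), (43, 45), (44, 44)], 281466386776064, [2, 3, 4, 2], [1, 2, 3, 2, 1, 2, 0, 1, 2, 0], 5, [([0, 1, 2, 3], 8), ([0, 3, 2, 1, 2, 3], 6)]⟩⟩,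
   ⟨[0, 1, 2, 3], [24, 25, 26, 27, 28, 29, 30, 31, 32, 33, 34, 35, 36, 37, 38, 39, 40, 41, 42, 43, 44, 45, 46, 47], 281474959933440, .good ⟨[([3, 2, 1, 0, 2, 1, 2], 3), ([0, 1], 2), ([1], 2), ([], 2)], [47, 41, 30, 25], [3, 2, 1, 0, 2, 1, 2, 3, 2, 1, 2, 0, 1, 2, 3, 0, 1, 2, 1, 0, 1, 2, 1, 2], [], 0, [0, 0, 0, 0], [3, 1, 2, 0, 1, 2, 3, 0, 1, 0], 6, [([], 12)]⟩⟩]

/-- Node 10. -/
def node10 : Node :=
  ⟨[0, 1, 2, 3], roots10, 281474976710655, reps10, [0, 1, 0, 2, 1, 0, 2, 1, 2, 3, 2, 1, 0, 2, 1, 2, 3, 2, 1, 0, 2, 1, 2, 3], cases10_0,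
    [(roots6, reps6), (roots9, reps9), (roots8, reps8), (roots3, reps3), (roots2, reps2), (roots7, reps7), (roots0, reps0)]⟩

/-- The final products. -/
def final : List (List ℕ) := [[], [47], [44], [47, 44], [39, 45]]

/-- The moves to the final products. -/
def merges : List (List Move × ℕ) :=
  [([], 0),
   ([.refl 0, .refl 1, .refl 2, .refl 3, .refl 3, .refl 2, .refl 1, .refl 0], 2),
   ([.refl 0, .refl 1, .refl 3, .refl 2, .refl 1, .refl 2, .conj [26], .norm, .refl 2, .refl 1, .refl 2, .refl 3, .refl 2, .refl 1, .refl 0], 3),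
   ([.refl 0, .refl 2, .refl 1, .refl 3, .conj [26], .conj [30], .refl 2, .refl 1, .refl 2, .refl 3, .conj [24], .norm, .refl 1, .refl 2, .refl 3, .refl 1, .refl 2, .refl 1], 4),
   ([.refl 0, .conj [37, 29, 28, 27], .norm, .refl 1, .refl 2, .refl 3, .refl 1, .refl 2, .refl 0, .refl 0, .refl 2, .refl 1, .refl 3, .conj [26], .conj [30], .refl 2, .refl 1, .refl 2, .refl 3, .conj [24], .norm, .refl 1, .refl 2, .refl 3, .refl 1, .refl 2, .refl 1], 4),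
   ([.refl 1, .refl 0, .refl 3, .refl 2, .conj [37, 32, 29], .norm, .refl 2, .refl 1, .refl 2, .refl 3, .refl 2, .refl 0, .refl 1, .refl 2, .refl 1], 4),
   ([.refl 0, .refl 1, .conj [36, 28, 25], .norm, .refl 2, .refl 3, .refl 1, .refl 2, .refl 0, .refl 0, .refl 1, .refl 2, .refl 1, .refl 2, .refl 3, .refl 2, .refl 1, .refl 2, .conj [41, 37, 31], .norm, .refl 2, .refl 1, .refl 2, .refl 3, .refl 1, .refl 2, .refl 0, .refl 1, .refl 2, .refl 1], 4),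
   ([.refl 0, .refl 2, .refl 1, .refl 0, .refl 2, .refl 3, .refl 2, .refl 2, .refl 3, .refl 2, .refl 0, .refl 1, .refl 2, .refl 1], 4),
   ([.refl 0, .refl 1, .refl 2, .refl 1, .refl 2, .refl 3, .refl 2, .refl 1, .refl 2, .conj [41, 37, 31], .norm, .refl 2, .refl 1, .refl 2, .refl 3, .refl 1, .refl 2, .refl 0, .refl 1, .refl 2, .refl 1], 4),
   ([.refl 3, .refl 2, .refl 1, .refl 0, .refl 0, .refl 1, .refl 2, .refl 3], 1),
   ([.refl 0, .refl 1, .refl 3, .refl 2, .refl 1, .refl 2, .conj [34], .norm, .refl 1, .refl 2, .refl 0, .refl 1, .refl 2, .refl 3, .refl 0], 3),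
   ([.refl 1, .conj [29], .conj [34], .refl 1, .refl 0, .refl 3, .refl 2, .refl 1, .conj [27], .norm], 4),
   ([.conj [42, 31, 30, 26], .norm, .refl 3, .refl 2, .refl 1, .refl 2, .refl 3, .refl 0, .refl 1, .refl 1, .conj [29], .conj [34], .refl 1, .refl 0, .refl 3, .refl 2, .refl 1, .conj [27], .norm], 4)]

end Cfsg.Agent.Chev.Invol.F4
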